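import Groth.Agent.CAlg99.DenseLift
import Groth.Agent.Hensel.Pair

/-!
# Finite algebras along a dense map `A[1/t] → Ah[1/t]`

For a henselian pair `(A, (t))` and `φ : A → Ah` with dense image, a finite `A[1/t]`-algebra and its
base change to `Ah[1/t]` have the same idempotents, and units are reflected.
-/

set_option autoImplicit false

universe u

open TensorProduct
open Groth.Agent.CAlg99 Groth.Agent.CAlg.DenseApprox

namespace Groth.Agent.FEtCat.DenseAlg

/-- A finite algebra over `R[1/t]` contains a module-finite `R`-subalgebra spanning it. -/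
theorem exists_lattice {R L C : Type u} [CommRing R] [CommRing L] [CommRing C] [Algebra R L]
    [Algebra L C] [Algebra R C] [IsScalarTower R L C] (t : R) [IsLocalization.Away t L]
    [Module.Finite L C] :
    ∃ S : Subalgebra R C, Module.Finite R S ∧ ∀ x : C, ∃ k : ℕ, t ^ k • x ∈ S := by
  classical
  obtain ⟨s, hs⟩ := (Module.Finite.fg_top (R := L) (M := C))
  have h : ∀ x : C, ∃ k : ℕ, IsIntegral R (t ^ k • x) := fun x => by
    obtain ⟨⟨_, k, rfl⟩, hk⟩ :=
      (Algebra.IsIntegral.isIntegral (R := L) x).exists_multiple_integral_of_isLocalization (Submonoid.powers t)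
    exact ⟨k, hk⟩
  choose k hk using h
  let S := Algebra.adjoin R ((s.image fun x => t ^ k x • x : Finset C) : Set C)
  refine ⟨S, ⟨(Submodule.fg_top _).mpr (fg_adjoin_of_finite (Finset.finite_toSet _) ?_)⟩, fun x => ?_⟩
  · intro y hy
    obtain ⟨x, -, rfl⟩ := Finset.mem_image.mp hy
    exact hk x
  have hx : x ∈ Submodule.span L (s : Set C) := by rw [hs]; trivial
  induction hx using Submodule.span_induction with
  | mem y hy => exact ⟨k y, Algebra.subset_adjoin (Finset.mem_image_of_mem _ hy)⟩
  | zero => exact ⟨0, by simp⟩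
  | add y z _ _ hy hz =>
    obtain ⟨a, ha⟩ := hy
    obtain ⟨b, hb⟩ := hz
    refine ⟨a + b, ?_⟩
    rw [smul_add]
    exact add_mem (by rw [add_comm, pow_add, mul_smul]; exact S.smul_mem ha _)
      (by rw [pow_add, mul_smul]; exact S.smul_mem hb _)
  | smul l y _ hy =>
    obtain ⟨a, ha⟩ := hy
    obtain ⟨⟨r, _, m, rfl⟩, hr⟩ := IsLocalization.surj (Submonoid.powers t) l
    refine ⟨m + a, ?_⟩
    have e : t ^ (m + a) • l • y = r • t ^ a • y := by
      simp only [Algebra.smul_def, map_mul, map_pow, pow_add, IsScalarTower.algebraMap_apply R L C] at hr ⊢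
      rw [← hr, map_mul, map_pow]
      ring
    rw [e]
    exact S.smul_mem ha r

/-- The localization of a spanning subalgebra. -/
theorem isLocalization_lattice {R L C : Type u} [CommRing R] [CommRing L] [CommRing C] [Algebra R L]
    [Algebra L C] [Algebra R C] [IsScalarTower R L C] (t : R) [IsLocalization.Away t L]
    (S : Subalgebra R C) (hS : ∀ x : C, ∃ k : ℕ, t ^ k • x ∈ S) :
    IsLocalization.Away (algebraMap R S t) C := by
  refine IsLocalization.Away.mk _ ?_ (fun x => ?_) fun a b h => ⟨0, by rw [Subtype.ext h]⟩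
  · change IsUnit (algebraMap R C t)
    rw [IsScalarTower.algebraMap_apply R L C]
    exact (IsLocalization.Away.algebraMap_isUnit t).map _
  · obtain ⟨k, hk⟩ := hS x
    refine ⟨k, ⟨_, hk⟩, ?_⟩
    change x * algebraMap R C t ^ k = t ^ k • x
    rw [Algebra.smul_def, map_pow, mul_comm]

variable {A Ah L L' : Type u} [CommRing A] [CommRing Ah] [CommRing L] [CommRing L']
  [Algebra A Ah] [Algebra A L] [Algebra Ah L'] [Algebra A L'] [IsScalarTower A Ah L']
  [Algebra L L'] [IsScalarTower A L L'] (t : A)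

/-- The standing hypotheses: `A → Ah` has dense image for the `t`-adic topology. -/
structure Setting : Prop where
  data : DenseLift.Data (algebraMap A Ah) t
  locA : IsLocalization.Away t L
  locAh : IsLocalization.Away (algebraMap A Ah t) L'
  hensA : HenselianRing A (Ideal.span {t})
  hensAh : HenselianRing Ah (Ideal.span {algebraMap A Ah t})

variable {t}

section
variable (D : DenseLift.Data (algebraMap A Ah) t) (H0 : Type u) [CommRing H0] [Algebra A H0]
include D

theorem bijective_quot (k : ℕ) :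
    Function.Bijective (Ideal.quotientMap (I := Ideal.span {t ^ k}) (Ideal.span {algebraMap A Ah t ^ k})
      (algebraMap A Ah) (by
        rw [Ideal.span_le, Set.singleton_subset_iff, SetLike.mem_coe, Ideal.mem_comap, map_pow]
        exact Ideal.mem_span_singleton_self _)) := by
  refine ⟨Ideal.quotientMap_injective' fun a ha => ?_, fun y => ?_⟩
  · obtain ⟨z, hz⟩ := Ideal.mem_span_singleton.mp (Ideal.mem_comap.mp ha)
    obtain ⟨c, rfl⟩ := D.dvd k a z hz
    exact Ideal.mem_span_singleton.mpr (dvd_mul_right _ _)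
  · obtain ⟨y, rfl⟩ := Ideal.Quotient.mk_surjective y
    obtain ⟨a, z, hz⟩ := D.dense k y
    refine ⟨Ideal.Quotient.mk _ a, ?_⟩
    rw [Ideal.quotientMap_mk, Ideal.Quotient.eq]
    exact Ideal.mem_span_singleton.mpr ⟨z, hz⟩

theorem data_tensor [Algebra.IsIntegral A H0] [HenselianRing Ah (Ideal.span {algebraMap A Ah t})] :
    DenseLift.Data (Algebra.TensorProduct.includeRight.toRingHom : H0 →+* Ah ⊗[A] H0)
      (algebraMap A H0 t) := by
  let θ := (Algebra.TensorProduct.includeRight.toRingHom : H0 →+* Ah ⊗[A] H0)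
  have hθ : ∀ k : ℕ, θ (algebraMap A H0 t) ^ k = (algebraMap A Ah t ^ k) ⊗ₜ[A] (1 : H0) := fun k => by
    rw [← map_pow, ← map_pow]
    change (1 : Ah) ⊗ₜ[A] algebraMap A H0 (t ^ k) = _
    rw [Algebra.algebraMap_eq_smul_one (A := H0), ← TensorProduct.smul_tmul, ← map_pow,
      Algebra.algebraMap_eq_smul_one (A := Ah)]
  refine ⟨fun k y => ?_, fun k a z hz => ?_, fun y => ?_⟩
  · induction y with
    | zero => exact ⟨0, 0, by simp⟩
    | tmul y h =>
      obtain ⟨a, z, hz⟩ := D.dense k y
      refine ⟨a • h, z ⊗ₜ h, ?_⟩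
      change (1 : Ah) ⊗ₜ[A] (a • h) - y ⊗ₜ h = θ _ ^ k * _
      rw [hθ, Algebra.TensorProduct.tmul_mul_tmul, one_mul, ← hz, TensorProduct.sub_tmul,
        ← TensorProduct.smul_tmul, Algebra.algebraMap_eq_smul_one]
    | add y y' hy hy' =>
      obtain ⟨a, z, hz⟩ := hy
      obtain ⟨a', z', hz'⟩ := hy'
      exact ⟨a + a', z + z', by rw [map_add, mul_add, ← hz, ← hz']; abel⟩
  · let I := Ideal.span {algebraMap A H0 t ^ k}
    let e := RingEquiv.ofBijective _ (bijective_quot D k)
    let g : A ⧸ Ideal.span {t ^ k} →+* H0 ⧸ I :=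
      Ideal.quotientMap I (algebraMap A H0) (by
        rw [Ideal.span_le, Set.singleton_subset_iff, SetLike.mem_coe, Ideal.mem_comap, map_pow]
        exact Ideal.mem_span_singleton_self _)
    let ρ₀ : Ah →+* H0 ⧸ I := g.comp (e.symm.toRingHom.comp (Ideal.Quotient.mk _))
    let ρ₁ : Ah →ₐ[A] H0 ⧸ I :=
      { toRingHom := ρ₀
        commutes' := fun a => by
          change g (e.symm (Ideal.Quotient.mk _ (algebraMap A Ah a))) = _
          rw [show Ideal.Quotient.mk _ (algebraMap A Ah a) = e (Ideal.Quotient.mk _ a) from rfl,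
            RingEquiv.symm_apply_apply]
          rfl }
    let ρ := Algebra.TensorProduct.productMap ρ₁ (Ideal.Quotient.mkₐ A I)
    have h := congrArg ρ hz
    have h1 : ρ (θ (algebraMap A H0 t) ^ k) = 0 := by
      rw [← map_pow]
      exact (Algebra.TensorProduct.productMap_right_apply _ _ _).trans
        (Ideal.Quotient.eq_zero_iff_mem.mpr (Ideal.mem_span_singleton_self _))
    rw [map_mul, h1, zero_mul] at h
    exact Ideal.mem_span_singleton.mp (Ideal.Quotient.eq_zero_iff_mem.mp
      ((Algebra.TensorProduct.productMap_right_apply ρ₁ _ a).symm.trans h))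
  · have := Hensel.henselianRing_of_isIntegral (A := Ah) (I := Ideal.span {algebraMap A Ah t}) (Ah ⊗[A] H0)
    have hmem : θ (algebraMap A H0 t) ∈
        (Ideal.span {algebraMap A Ah t}).map (algebraMap Ah (Ah ⊗[A] H0)) := by
      rw [← pow_one (θ _), hθ, pow_one]
      exact Ideal.mem_map_of_mem _ (Ideal.mem_span_singleton_self _)
    rw [add_comm]
    exact Ideal.mem_jacobson_bot.mp (HenselianRing.jac hmem) y

end

/-- `(Ah ⊗ H0)[1/t] = L' ⊗ H`. -/
theorem isLocalization_tensor [IsLocalization.Away t L] [IsLocalization.Away (algebraMap A Ah t) L']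
    {H0 H : Type u} [CommRing H0] [CommRing H] [Algebra A H0] [Algebra A H] [Algebra L H]
    [IsScalarTower A L H] [Algebra H0 H] [IsScalarTower A H0 H] [IsLocalization.Away (algebraMap A H0 t) H] :
    letI := (Algebra.TensorProduct.productMap
      ((Algebra.TensorProduct.includeLeft : L' →ₐ[A] L' ⊗[L] H).comp (IsScalarTower.toAlgHom A Ah L'))
      (((Algebra.TensorProduct.includeRight : H →ₐ[L] L' ⊗[L] H).restrictScalars A).comp
        (IsScalarTower.toAlgHom A H0 H))).toRingHom.toAlgebra
    IsLocalization.Away ((Algebra.TensorProduct.includeRight (R := A) (A := Ah) (B := H0))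
      (algebraMap A H0 t)) (L' ⊗[L] H) := by
  set f := Algebra.TensorProduct.productMap
      ((Algebra.TensorProduct.includeLeft : L' →ₐ[A] L' ⊗[L] H).comp (IsScalarTower.toAlgHom A Ah L'))
      (((Algebra.TensorProduct.includeRight : H →ₐ[L] L' ⊗[L] H).restrictScalars A).comp
        (IsScalarTower.toAlgHom A H0 H))
  let alg : Algebra (Ah ⊗[A] H0) (L' ⊗[L] H) := f.toRingHom.toAlgebra
  have hfl : ∀ y : Ah, f (y ⊗ₜ 1) = algebraMap Ah L' y ⊗ₜ 1 := fun y =>
    Algebra.TensorProduct.productMap_left_apply _ _ _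
  have hfr : ∀ h : H0, f (1 ⊗ₜ h) = 1 ⊗ₜ algebraMap H0 H h := fun h =>
    Algebra.TensorProduct.productMap_right_apply _ _ _
  set τ := (Algebra.TensorProduct.includeRight (R := A) (A := Ah) (B := H0)) (algebraMap A H0 t) with hτdef
  have hτ : τ = algebraMap A (Ah ⊗[A] H0) t := AlgHom.commutes _ _
  have hfτ : f τ = algebraMap A (L' ⊗[L] H) t := by rw [hτ, f.commutes]
  have hu : IsUnit (algebraMap A (L' ⊗[L] H) t) := by
    rw [IsScalarTower.algebraMap_apply A L (L' ⊗[L] H)]
    exact (IsLocalization.Away.algebraMap_isUnit t).map _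
  refine IsLocalization.Away.mk _ (hfτ ▸ hu) (fun z => ?_) fun a b hab => ?_
  · induction z with
    | zero => exact ⟨0, 0, by simp⟩
    | tmul l h =>
      obtain ⟨k, y, hy⟩ := IsLocalization.Away.surj (algebraMap A Ah t) l
      obtain ⟨m, g, hg⟩ := IsLocalization.Away.surj (algebraMap A H0 t) h
      refine ⟨k + m, y ⊗ₜ g, ?_⟩
      change _ * f τ ^ (k + m) = f _
      rw [show (y ⊗ₜ[A] g) = (y ⊗ₜ 1) * (1 ⊗ₜ g) by simp, map_mul, hfl, hfr, ← hy, ← hg, hfτ,
        Algebra.TensorProduct.tmul_mul_tmul, mul_one, one_mul,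
        ← IsScalarTower.algebraMap_apply A H0 H, ← IsScalarTower.algebraMap_apply A Ah L']
      have e1 : (algebraMap A L' t) ⊗ₜ[L] (1 : H) = algebraMap A (L' ⊗[L] H) t := rfl
      have e2 : (1 : L') ⊗ₜ[L] algebraMap A H t = algebraMap A (L' ⊗[L] H) t :=
        ((Algebra.TensorProduct.includeRight : H →ₐ[L] L' ⊗[L] H).restrictScalars A).commutes t
      rw [show (l * algebraMap A L' t ^ k) ⊗ₜ[L] (h * algebraMap A H t ^ m) =
        l ⊗ₜ h * ((algebraMap A L' t) ⊗ₜ 1) ^ k * ((1 : L') ⊗ₜ algebraMap A H t) ^ m by simp, e1, e2, pow_add]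
      ring
    | add z z' hz hz' =>
      obtain ⟨k, y, hy⟩ := hz
      obtain ⟨k', y', hy'⟩ := hz'
      refine ⟨k + k', y * τ ^ k' + y' * τ ^ k, ?_⟩
      rw [map_add, map_mul, map_mul, ← hy, ← hy', map_pow, map_pow]
      ring
  · let T := Localization.Away τ
    have huT : IsUnit (algebraMap A T t) := by
      rw [IsScalarTower.algebraMap_apply A (Ah ⊗[A] H0) T, ← hτ]
      exact IsLocalization.Away.algebraMap_isUnit τ
    let gl₀ : Ah →ₐ[A] T := (IsScalarTower.toAlgHom A (Ah ⊗[A] H0) T).comp Algebra.TensorProduct.includeLeft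
    let gr₀ : H0 →ₐ[A] T := (IsScalarTower.toAlgHom A (Ah ⊗[A] H0) T).comp Algebra.TensorProduct.includeRight
    have hlu : IsUnit (gl₀ (algebraMap A Ah t)) := by rw [AlgHom.commutes]; exact huT
    have hru : IsUnit (gr₀ (algebraMap A H0 t)) := by rw [AlgHom.commutes]; exact huT
    let gl : L' →+* T := IsLocalization.Away.lift (S := L') (algebraMap A Ah t) hlu
    let gr : H →+* T := IsLocalization.Away.lift (S := H) (algebraMap A H0 t) hru
    let algT : Algebra L T := (gl.comp (algebraMap L L')).toAlgebra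
    have hLH : gr.comp (algebraMap L H) = gl.comp (algebraMap L L') := by
      refine IsLocalization.ringHom_ext (Submonoid.powers t) (RingHom.ext fun x => ?_)
      simp only [RingHom.comp_apply, ← IsScalarTower.algebraMap_apply A L H, ← IsScalarTower.algebraMap_apply A L L',
        IsScalarTower.algebraMap_apply A H0 H, IsScalarTower.algebraMap_apply A Ah L', gl, gr]
      rw [IsLocalization.Away.lift_eq, IsLocalization.Away.lift_eq]
      exact (gr₀.commutes x).trans (gl₀.commutes x).symm
    let gla : L' →ₐ[L] T := { toRingHom := gl, commutes' := fun _ => rfl }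
    let gra : H →ₐ[L] T := { toRingHom := gr, commutes' := fun x => RingHom.congr_fun hLH x }
    let ret := Algebra.TensorProduct.productMap gla gra
    have hret : ∀ w, ret (f w) = algebraMap (Ah ⊗[A] H0) T w := by
      intro w
      induction w with
      | zero => simp
      | tmul y h =>
        rw [show (y ⊗ₜ[A] h) = (y ⊗ₜ 1) * (1 ⊗ₜ h) by simp, map_mul f, hfl, hfr, map_mul, map_mul,
          Algebra.TensorProduct.productMap_left_apply, Algebra.TensorProduct.productMap_right_apply]
        exact congrArg₂ (· * ·) (IsLocalization.Away.lift_eq _ hlu y) (IsLocalization.Away.lift_eq _ hru h)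
      | add x y hx hy => rw [map_add, map_add, hx, hy, map_add]
    have hab' := congrArg ret (show f a = f b from hab)
    rw [hret, hret] at hab'
    obtain ⟨⟨_, n, rfl⟩, hn⟩ := IsLocalization.exists_of_eq (M := Submonoid.powers τ) hab'
    exact ⟨n, hn⟩

/-- Idempotents of finite algebras descend uniquely, and units are reflected. -/
theorem idempotent_and_unit (S : Setting (Ah := Ah) (L := L) (L' := L') t) (H : Type u) [CommRing H]
    [Algebra L H] [Module.Finite L H] :
    (∀ e : L' ⊗[L] H, IsIdempotentElem e → ∃! e₀ : H, IsIdempotentElem e₀ ∧ (1 : L') ⊗ₜ[L] e₀ = e) ∧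
    ∀ x : H, IsUnit ((1 : L') ⊗ₜ[L] x) → IsUnit x := by
  classical
  have := S.locA
  have := S.locAh
  have := S.hensA
  have := S.hensAh
  let : Algebra A H := ((algebraMap L H).comp (algebraMap A L)).toAlgebra
  have : IsScalarTower A L H := .of_algebraMap_eq' rfl
  obtain ⟨H0, hfin, hspan⟩ := exists_lattice (R := A) (L := L) (C := H) t
  have : IsLocalization.Away (algebraMap A H0 t) H := isLocalization_lattice (L := L) t H0 hspan
  let φH : H0 →+* Ah ⊗[A] H0 := Algebra.TensorProduct.includeRight.toRingHom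
  let f := Algebra.TensorProduct.productMap
      ((Algebra.TensorProduct.includeLeft : L' →ₐ[A] L' ⊗[L] H).comp (IsScalarTower.toAlgHom A Ah L'))
      (((Algebra.TensorProduct.includeRight : H →ₐ[L] L' ⊗[L] H).restrictScalars A).comp
        (IsScalarTower.toAlgHom A H0 H))
  let : Algebra (Ah ⊗[A] H0) (L' ⊗[L] H) := f.toRingHom.toAlgebra
  have : IsLocalization.Away (φH (algebraMap A H0 t)) (L' ⊗[L] H) :=
    isLocalization_tensor (A := A) (Ah := Ah) (L := L) (L' := L') (t := t) (H0 := H0) (H := H)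
  let : Algebra H (L' ⊗[L] H) := Algebra.TensorProduct.rightAlgebra
  have hcomp : ∀ a : H0, algebraMap H (L' ⊗[L] H) (algebraMap H0 H a) =
      algebraMap (Ah ⊗[A] H0) (L' ⊗[L] H) (φH a) := fun a => by
    change _ = f ((1 : Ah) ⊗ₜ[A] a)
    rw [Algebra.TensorProduct.productMap_right_apply]
    rfl
  have D := data_tensor S.data H0
  have : HenselianRing H0 (Ideal.span {algebraMap A H0 t}) := by
    have := Hensel.henselianRing_of_isIntegral (A := A) (I := Ideal.span {t}) H0
    rwa [Ideal.map_span, Set.image_singleton] at this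
  have hjac : ∀ c : H0, IsUnit (1 + algebraMap A H0 t * c) := fun c => by
    have := Ideal.mem_jacobson_bot.1 (HenselianRing.jac (I := Ideal.span {algebraMap A H0 t})
      (Ideal.mem_span_singleton_self _)) c
    rwa [add_comm] at this
  let F := DenseLift.filt (L := H) (L' := L' ⊗[L] H) hcomp D hjac
  have hone : ∀ x : H, algebraMap H (L' ⊗[L] H) x = (1 : L') ⊗ₜ[L] x := fun _ => rfl
  refine ⟨fun e he => ?_, fun x hx => ?_⟩
  · obtain ⟨E₀, U, hE₀, hU, hint⟩ :=
      DenseLift.exists_idempotent (L := H) hcomp D (Matrix.diagonal fun _ : Fin 1 => e)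
        (by change _ * _ = _; rw [Matrix.diagonal_mul_diagonal]; exact congrArg _ (funext fun _ => he.eq))
    have h1 : ∀ M N : Matrix (Fin 1) (Fin 1) (L' ⊗[L] H), (M * N) 0 0 = M 0 0 * N 0 0 := fun M N => by
      simp [Matrix.mul_apply]
    have hu : IsUnit (U 0 0) := by
      obtain ⟨V, hV⟩ := hU.exists_right_inv
      exact IsUnit.of_mul_eq_one (V 0 0) (by rw [← h1, hV, Matrix.one_apply_eq])
    have hee : (1 : L') ⊗ₜ[L] E₀ 0 0 = e := by
      have h2 := congrArg (fun M : Matrix (Fin 1) (Fin 1) (L' ⊗[L] H) => M 0 0) hint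
      simp only [h1, Matrix.map_apply, Matrix.diagonal_apply_eq] at h2
      rw [mul_comm (U 0 0)] at h2
      exact hone _ ▸ hu.mul_left_injective h2
    have hidem : IsIdempotentElem (E₀ 0 0) := by
      have h2 := congrArg (fun M : Matrix (Fin 1) (Fin 1) H => M 0 0) hE₀.eq
      simpa [Matrix.mul_apply, IsIdempotentElem] using h2
    refine ⟨E₀ 0 0, ⟨hidem, hee⟩, fun e₁ ⟨he₁, he₁'⟩ => sub_eq_zero.mp ?_⟩
    obtain ⟨c, hc⟩ := DenseLift.exists_integral hcomp D (e₁ - E₀ 0 0) 1 0 (by
      rw [map_sub, hone, hone, he₁', hee, sub_self, mul_zero, map_zero])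
    set d := e₁ - E₀ 0 0
    have h3 : d * (1 - d * d) = 0 := by
      linear_combination (-e₁ + 3 * E₀ 0 0 - 1) * he₁.eq + (-3 * e₁ + E₀ 0 0 + 1) * hidem.eq
    refine (IsUnit.mul_left_eq_zero ?_).mp h3
    rw [hc, ← map_one (algebraMap H0 H), ← map_mul, ← map_sub]
    refine IsUnit.map _ ?_
    have := hjac (-(algebraMap A H0 t * c * c))
    rw [pow_one]
    convert this using 1
    ring
  · obtain ⟨v, hv⟩ := hx.exists_right_inv
    have hv' : algebraMap H _ x * v = 1 := hv
    obtain ⟨a, ha⟩ := exists_ent (F := F) (Matrix.diagonal fun _ : Fin 1 => algebraMap H (L' ⊗[L] H) x)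
    obtain ⟨v₀, hv₀⟩ := exists_ent_approx F (Matrix.diagonal fun _ : Fin 1 => v) (1 - a)
    have hX : Ent F 1 (((Matrix.diagonal fun _ : Fin 1 => x) * v₀).map (algebraMap H (L' ⊗[L] H)) - 1) := by
      have := (ha.mul hv₀).mono (b := 1) (by omega)
      convert this using 1
      rw [Matrix.map_mul, Matrix.diagonal_map (map_zero _), mul_sub, Matrix.diagonal_mul_diagonal]
      simp only [hv']
      rw [Matrix.diagonal_one]
    have := isUnit_det_base (F := F) hX
    rw [Matrix.det_mul, Matrix.det_diagonal, Finset.prod_const, Finset.card_univ, Fintype.card_fin, pow_one] at this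
    exact isUnit_of_mul_isUnit_left this

end Groth.Agent.FEtCat.DenseAlg
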