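import Groth.Agent.FEtCat.DenseAlg.Newton
import Mathlib.RingTheory.Ideal.IdempotentFG

/-!
# Descent of finite etale algebras along `A[1/t] → Ah[1/t]`
-/

set_option autoImplicit false
set_option backward.isDefEq.respectTransparency.types false

universe u

open MvPolynomial TensorProduct

namespace Groth.Agent.FEtCat.DenseAlg

variable {A Ah L L' : Type u} [CommRing A] [CommRing Ah] [CommRing L] [CommRing L']
  [Algebra A Ah] [Algebra A L] [Algebra Ah L'] [Algebra A L'] [IsScalarTower A Ah L']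
  [Algebra L L'] [IsScalarTower A L L'] {t : A}

/-- A quotient of an etale algebra by an idempotent is etale. -/
theorem etale_quotient_idempotent {L₀ Q : Type u} [CommRing L₀] [CommRing Q] [Algebra L₀ Q] [Algebra.Etale L₀ Q]
    {C : Type u} [CommRing C] [Algebra L₀ C] (f : Q →ₐ[L₀] C) (hf : Function.Surjective f) {e : Q}
    (he : IsIdempotentElem e) (hker : RingHom.ker f = Ideal.span {e}) : Algebra.Etale L₀ C := by
  let : Algebra Q C := f.toRingHom.toAlgebra
  have : IsScalarTower L₀ Q C := .of_algebraMap_eq fun x => (f.commutes x).symm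
  have hk : RingHom.ker (algebraMap Q C) = Ideal.span {e} := hker
  have : Algebra.FormallyEtale Q C := by
    rw [Algebra.FormallyEtale.iff_of_surjective (show Function.Surjective (algebraMap Q C) from hf), hk]
    show Ideal.span {e} * Ideal.span {e} = Ideal.span {e}
    rw [Ideal.span_singleton_mul_span_singleton, he.eq]
  have : Algebra.FinitePresentation Q C :=
    Algebra.FinitePresentation.of_surjective (f := Algebra.ofId Q C) hf
      (by change (RingHom.ker (algebraMap Q C)).FG; rw [hk]; exact Submodule.fg_span_singleton e)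
  have : Algebra.Etale Q C := { }
  exact Algebra.Etale.comp L₀ Q C

set_option maxHeartbeats 800000 in
/-- The factor of a finite algebra mapping to a finite etale algebra. -/
theorem exists_factor (S : Setting (Ah := Ah) (L := L) (L' := L') t) (C' : Type u) [CommRing C']
    [Algebra L' C'] [Algebra.Etale L' C'] [Algebra L C'] [IsScalarTower L L' C']
    (R₀ : Type u) [CommRing R₀] [Algebra L R₀] [Module.Finite L R₀] [Algebra.FinitePresentation L R₀]
    (d : R₀) [Algebra.Etale L (Localization.Away d)] (g₀ : R₀ →ₐ[L] C') (hdu : IsUnit (g₀ d))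
    (hψ' : Function.Surjective
      (Algebra.TensorProduct.lift (Algebra.ofId L' C') g₀ fun _ _ => .all _ _ : L' ⊗[L] R₀ →ₐ[L'] C')) :
    ∃ (C : Type u) (_ : CommRing C) (_ : Algebra L C), Algebra.Etale L C ∧ Module.Finite L C ∧
      Nonempty (L' ⊗[L] C ≃ₐ[L'] C') := by
  classical
  let ψ : L' ⊗[L] R₀ →ₐ[L'] C' := Algebra.TensorProduct.lift (Algebra.ofId L' C') g₀ fun _ _ => .all _ _
  have hψr : ∀ r, ψ (1 ⊗ₜ r) = g₀ r := fun r => by simp [ψ]
  have hψ : Function.Surjective ψ := hψ'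
  -- the kernel is idempotent
  let K := RingHom.ker ψ
  let Q := L' ⊗[L] Localization.Away d
  let q : L' ⊗[L] R₀ →ₐ[L'] Q :=
    Algebra.TensorProduct.map (AlgHom.id L' L') (IsScalarTower.toAlgHom L R₀ (Localization.Away d))
  have hqr : ∀ r, q (1 ⊗ₜ r) = 1 ⊗ₜ algebraMap R₀ (Localization.Away d) r := fun r => rfl
  let g₁ : Localization.Away d →ₐ[L] C' := IsLocalization.Away.liftAlgHom d (f := g₀) hdu
  let χ : Q →ₐ[L'] C' := Algebra.TensorProduct.lift (Algebra.ofId L' C') g₁ fun _ _ => .all _ _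
  have hχq : χ.comp q = ψ := by
    refine Algebra.TensorProduct.ext' fun l r => ?_
    change algebraMap L' C' l * g₁ (algebraMap R₀ _ r) = algebraMap L' C' l * g₀ r
    exact congrArg (algebraMap L' C' l * ·) (IsLocalization.Away.lift_eq d hdu r)
  have hχ : Function.Surjective χ := fun c => by
    obtain ⟨r, rfl⟩ := hψ c
    exact ⟨q r, DFunLike.congr_fun hχq r⟩
  let : Algebra Q C' := χ.toRingHom.toAlgebra
  have : IsScalarTower L' Q C' := .of_algebraMap_eq fun z => (χ.commutes z).symm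
  have hKQ : IsIdempotentElem (RingHom.ker χ) := by
    have : Algebra.FormallyEtale Q C' := (Algebra.FormallyEtale.iff_restrictScalars (R := L')).mp inferInstance
    exact (Algebra.FormallyEtale.iff_of_surjective (show Function.Surjective (algebraMap Q C') from hχ)).mp this
  let R₂ := (L' ⊗[L] R₀) ⧸ K ^ 2
  have hK2le : K ^ 2 ≤ K := Ideal.pow_le_self two_ne_zero
  let π : R₂ →ₐ[L'] C' := Ideal.Quotient.liftₐ (K ^ 2) ψ fun a ha => hK2le ha
  let r₀ : R₀ →ₐ[L] R₂ :=
    ((Ideal.Quotient.mkₐ L' (K ^ 2)).restrictScalars L).comp Algebra.TensorProduct.includeRight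
  have hr₀ : IsUnit (r₀ d) := by
    obtain ⟨u, hu⟩ := hdu.exists_right_inv
    obtain ⟨v, rfl⟩ := hψ u
    have hnil : IsNilpotent (Ideal.Quotient.mk (K ^ 2) ((1 : L') ⊗ₜ d * v - 1)) := by
      refine ⟨2, ?_⟩
      rw [← map_pow, Ideal.Quotient.eq_zero_iff_mem]
      refine Ideal.pow_mem_pow ?_ 2
      show ψ _ = 0
      rw [map_sub, map_mul, map_one, hψr, hu, sub_self]
    have h1 := hnil.isUnit_add_one
    rw [map_sub, map_one, sub_add_cancel, map_mul] at h1
    exact isUnit_of_mul_isUnit_left h1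
  let r₁ : Localization.Away d →ₐ[L] R₂ := IsLocalization.Away.liftAlgHom d (f := r₀) hr₀
  let ρ : Q →ₐ[L'] R₂ := Algebra.TensorProduct.lift (Algebra.ofId L' R₂) r₁ fun _ _ => .all _ _
  have hρq : ρ.comp q = Ideal.Quotient.mkₐ L' (K ^ 2) := by
    refine Algebra.TensorProduct.ext' fun l r => ?_
    change algebraMap L' R₂ l * r₁ (algebraMap R₀ _ r) = Ideal.Quotient.mkₐ L' (K ^ 2) (l ⊗ₜ[L] r)
    rw [show r₁ (algebraMap R₀ _ r) = r₀ r from IsLocalization.Away.lift_eq d hr₀ r,
      show l ⊗ₜ[L] r = algebraMap L' (L' ⊗[L] R₀) l * ((1 : L') ⊗ₜ r) by simp, map_mul, AlgHom.commutes]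
    rfl
  have hπρ : π.comp ρ = χ := by
    refine Algebra.TensorProduct.ext (Subsingleton.elim _ _) ?_
    refine IsLocalization.algHom_ext (Submonoid.powers d) (AlgHom.ext fun r => ?_)
    change π (ρ (1 ⊗ₜ algebraMap R₀ _ r)) = χ (1 ⊗ₜ algebraMap R₀ _ r)
    rw [← hqr r, ← AlgHom.comp_apply ρ, hρq, ← AlgHom.comp_apply χ, hχq]
    rfl
  have hK : IsIdempotentElem K := by
    refine le_antisymm Ideal.mul_le_left fun k hk => ?_
    have h1 : q k ∈ RingHom.ker χ * RingHom.ker χ := by
      rw [hKQ.eq, RingHom.mem_ker, ← AlgHom.comp_apply, hχq]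
      exact hk
    have h2 : ρ (q k) ∈ (RingHom.ker π) * (RingHom.ker π) := by
      have hle : (RingHom.ker χ).map ρ.toRingHom ≤ RingHom.ker π := by
        rw [Ideal.map_le_iff_le_comap]
        intro z hz
        show π (ρ z) = 0
        rw [← AlgHom.comp_apply, hπρ]
        exact hz
      have := Ideal.mem_map_of_mem ρ.toRingHom h1
      rw [Ideal.map_mul] at this
      exact Ideal.mul_mono hle hle this
    have hπ : RingHom.ker π = K.map (Ideal.Quotient.mk (K ^ 2)) := by
      ext z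
      obtain ⟨w, rfl⟩ := Ideal.Quotient.mk_surjective z
      rw [Ideal.mem_map_iff_of_surjective _ Ideal.Quotient.mk_surjective, RingHom.mem_ker]
      refine ⟨fun h => ⟨w, h, rfl⟩, ?_⟩
      rintro ⟨w', hw', h⟩
      have : ψ (w' - w) = 0 := hK2le (Ideal.Quotient.eq.mp h)
      rw [map_sub, show ψ w' = 0 from hw', zero_sub, neg_eq_zero] at this
      exact this
    rw [hπ, ← Ideal.map_mul, ← pow_two, Ideal.map_quotient_self, Ideal.mem_bot, ← AlgHom.comp_apply, hρq] at h2
    rw [← pow_two]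
    exact Ideal.Quotient.eq_zero_iff_mem.mp h2
  obtain ⟨e, he, hKe⟩ := (Ideal.isIdempotentElem_iff_of_fg K
    (Algebra.FinitePresentation.ker_fG_of_surjective ψ hψ)).mp hK
  obtain ⟨e₀, ⟨he₀, hee⟩, -⟩ := (idempotent_and_unit S R₀).1 e he
  let C := R₀ ⧸ Ideal.span {e₀}
  let π₀ : R₀ →ₐ[L] C := Ideal.Quotient.mkₐ L _
  let θ : L' ⊗[L] R₀ →ₐ[L'] L' ⊗[L] C := Algebra.TensorProduct.map (AlgHom.id L' L') π₀
  have hθ : Function.Surjective θ := by
    intro z
    induction z with
    | zero => exact ⟨0, map_zero θ⟩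
    | tmul l c =>
      obtain ⟨r, rfl⟩ := Ideal.Quotient.mk_surjective c
      exact ⟨l ⊗ₜ r, rfl⟩
    | add a b ha hb =>
      obtain ⟨a', rfl⟩ := ha
      obtain ⟨b', rfl⟩ := hb
      exact ⟨a' + b', map_add θ _ _⟩
  have he0' : g₀ e₀ = 0 := by
    rw [← hψr, hee]
    exact (hKe.ge : _ ≤ K) (Ideal.mem_span_singleton_self e)
  let g : C →ₐ[L] C' := Ideal.Quotient.liftₐ _ g₀ fun a ha => by
    obtain ⟨b, rfl⟩ := Ideal.mem_span_singleton.mp ha
    rw [map_mul, he0', zero_mul]
  let Φ : L' ⊗[L] C →ₐ[L'] C' := Algebra.TensorProduct.lift (Algebra.ofId L' C') g fun _ _ => .all _ _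
  have hΦθ : Φ.comp θ = ψ := by
    refine Algebra.TensorProduct.ext' fun l r => ?_
    rfl
  have hΦ : Function.Bijective Φ := by
    refine ⟨(injective_iff_map_eq_zero Φ).mpr fun z hz => ?_, fun c => ?_⟩
    · obtain ⟨w, rfl⟩ := hθ z
      have hw : w ∈ K := by rw [RingHom.mem_ker, ← hΦθ]; exact hz
      rw [hKe] at hw
      obtain ⟨v, rfl⟩ := Ideal.mem_span_singleton.mp hw
      rw [← hee, map_mul]
      rw [show θ ((1 : L') ⊗ₜ[L] e₀) = (1 : L') ⊗ₜ[L] π₀ e₀ from rfl,
        show π₀ e₀ = 0 from Ideal.Quotient.eq_zero_iff_mem.mpr (Ideal.mem_span_singleton_self e₀),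
        TensorProduct.tmul_zero, zero_mul]
    · obtain ⟨w, rfl⟩ := hψ c
      exact ⟨θ w, DFunLike.congr_fun hΦθ w⟩
  let E := AlgEquiv.ofBijective Φ hΦ
  have : Module.Finite L C := inferInstance
  have hdC : IsUnit (π₀ d) := (idempotent_and_unit S C).2 _ (by
    have h1 : E ((1 : L') ⊗ₜ π₀ d) = g₀ d := by
      change Φ (1 ⊗ₜ π₀ d) = _
      exact (Algebra.TensorProduct.lift_tmul _ _ _ _ _).trans (by rw [map_one, one_mul]; rfl)
    exact (MulEquiv.isUnit_map E).mp (h1 ▸ hdu))
  let f : Localization.Away d →ₐ[L] C := IsLocalization.Away.liftAlgHom d (f := π₀) hdC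
  have hf : ∀ r, f (algebraMap R₀ _ r) = π₀ r := fun r => IsLocalization.Away.lift_eq d hdC r
  refine ⟨C, inferInstance, inferInstance,
    etale_quotient_idempotent f (fun c => ?_) (he₀.map (algebraMap R₀ (Localization.Away d))) ?_,
    inferInstance, ⟨E⟩⟩
  · obtain ⟨r, rfl⟩ := Ideal.Quotient.mk_surjective c
    exact ⟨algebraMap R₀ _ r, hf r⟩
  · refine le_antisymm (fun z hz => ?_) ?_
    · obtain ⟨n, r, hr⟩ := IsLocalization.Away.surj d z
      have h0 : π₀ r = 0 := by rw [← hf, ← hr, map_mul, show f z = 0 from hz, zero_mul]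
      obtain ⟨s, rfl⟩ := Ideal.mem_span_singleton.mp (Ideal.Quotient.eq_zero_iff_mem.mp h0)
      rw [map_mul] at hr
      have hu := (IsLocalization.Away.algebraMap_isUnit (S := Localization.Away d) d).pow n
      exact (Ideal.unit_mul_mem_iff_mem _ hu).mp (by
        rw [mul_comm, hr]; exact Ideal.mul_mem_right _ _ (Ideal.mem_span_singleton_self _))
    · rw [Ideal.span_le, Set.singleton_subset_iff, SetLike.mem_coe, RingHom.mem_ker, hf]
      exact Ideal.Quotient.eq_zero_iff_mem.mpr (Ideal.mem_span_singleton_self _)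


set_option maxHeartbeats 800000 in
/-- Every finite etale `L'`-algebra comes from a finite etale `L`-algebra. -/
theorem exists_descent (S : Setting (Ah := Ah) (L := L) (L' := L') t) (C' : Type u) [CommRing C']
    [Algebra L' C'] [Algebra.Etale L' C'] [Module.Finite L' C'] :
    ∃ (C : Type u) (_ : CommRing C) (_ : Algebra L C), Algebra.Etale L C ∧ Module.Finite L C ∧
      Nonempty (L' ⊗[L] C ≃ₐ[L'] C') := by
  classical
  obtain ⟨ι, _, _, D, F, x, hdeg, hsurj, hF, hdet⟩ := exists_system S C'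
  let I := Ideal.span (Set.range F)
  let R₀ := MvPolynomial ι L ⧸ I
  have : Module.Finite L R₀ := finite_of_monic F hdeg
  let d : R₀ := Ideal.Quotient.mk I (jac F).det
  have : Algebra.Etale L (Localization.Away d) := etale_away_det F
  let : Algebra L C' := ((algebraMap L' C').comp (algebraMap L L')).toAlgebra
  have : IsScalarTower L L' C' := .of_algebraMap_eq' rfl
  let g₀ : R₀ →ₐ[L] C' := Ideal.Quotient.liftₐ I (aeval x) fun a ha => by
    refine RingHom.mem_ker.mp ((Ideal.span_le.mpr ?_ : I ≤ RingHom.ker (aeval x : MvPolynomial ι L →ₐ[L] C')) ha)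
    rintro _ ⟨i, rfl⟩
    show aeval x (F i) = 0
    rw [← aeval_map_algebraMap L' x, hF i]
  have hg₀ : ∀ p, g₀ (Ideal.Quotient.mk I p) = aeval x p := fun p => rfl
  let ψ : L' ⊗[L] R₀ →ₐ[L'] C' := Algebra.TensorProduct.lift (Algebra.ofId L' C') g₀ fun _ _ => .all _ _
  have hψr : ∀ r, ψ (1 ⊗ₜ r) = g₀ r := fun r => by simp [ψ]
  have hψ : Function.Surjective ψ := by
    intro c
    obtain ⟨p, rfl⟩ := hsurj c
    induction p using MvPolynomial.induction_on with
    | C r => exact ⟨r ⊗ₜ 1, by simp [ψ]⟩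
    | add p q hp hq =>
      obtain ⟨a, ha⟩ := hp
      obtain ⟨b, hb⟩ := hq
      exact ⟨a + b, by rw [map_add, map_add, ha, hb]⟩
    | mul_X p i hp =>
      obtain ⟨a, ha⟩ := hp
      refine ⟨a * (1 ⊗ₜ Ideal.Quotient.mk I (X i)), ?_⟩
      rw [map_mul, ha, hψr, hg₀, map_mul, aeval_X, aeval_X]
  have hdu : IsUnit (g₀ d) := by
    rw [hg₀, ← aeval_map_algebraMap L' x]
    exact hdet
  have : Algebra.FinitePresentation L R₀ :=
    Algebra.FinitePresentation.quotient (Submodule.fg_span (Set.finite_range F))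
  exact exists_factor S C' R₀ d g₀ hdu hψ

end Groth.Agent.FEtCat.DenseAlg
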