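import Groth.Agent.FEtCat.DenseAlg.Descent
import Groth.Agent.FEtCat.Full
import Mathlib.AlgebraicGeometry.Morphisms.Finite
import Mathlib.AlgebraicGeometry.Pullbacks

/-!
# Finite etale covers along `A[1/t] → Ah[1/t]`
-/

set_option autoImplicit false
set_option backward.isDefEq.respectTransparency.types false

universe u

open CategoryTheory CategoryTheory.Limits AlgebraicGeometry TensorProduct

noncomputable section

namespace Groth.Agent.FEtCat.DenseAlg

/-- A finite etale cover of an affine scheme is the spectrum of a finite etale algebra. -/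
theorem exists_algebra {L : Type u} [CommRing L] (Y : FEt.Cat (Spec (CommRingCat.of L))) :
    ∃ (H : Type u) (_ : CommRing H) (_ : Algebra L H) (_ : Algebra.Etale L H) (_ : Module.Finite L H)
      (i : Spec (CommRingCat.of H) ≅ Y.left),
      i.hom ≫ Y.hom = Spec.map (CommRingCat.ofHom (algebraMap L H)) := by
  let p : Y.left ⟶ Spec (CommRingCat.of L) := Y.hom
  have : IsFinite p := Basic.isFinite_hom Y
  have : Etale p := Basic.etale_hom Y
  have : IsAffine Y.left := isAffine_of_isAffineHom p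
  let φ : CommRingCat.of L ⟶ Γ(Y.left, ⊤) := Spec.preimage (Y.left.isoSpec.inv ≫ p)
  have hφ : Spec.map φ = Y.left.isoSpec.inv ≫ p := Spec.map_preimage _
  let : Algebra L Γ(Y.left, ⊤) := φ.hom.toAlgebra
  have he : Etale (Spec.map φ) := by rw [hφ]; infer_instance
  have hf : IsFinite (Spec.map φ) := by rw [hφ]; infer_instance
  refine ⟨Γ(Y.left, ⊤), inferInstance, inferInstance, ?_, ?_, Y.left.isoSpec.symm, hφ.symm⟩
  · exact RingHom.etale_algebraMap.mp ((HasRingHomProperty.Spec_iff (P := @Etale)).mp he)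
  · exact RingHom.finite_algebraMap.mp ((IsFinite.SpecMap_iff φ).mp hf)

variable {A Ah L L' : Type u} [CommRing A] [CommRing Ah] [CommRing L] [CommRing L']
  [Algebra A Ah] [Algebra A L] [Algebra Ah L'] [Algebra A L'] [IsScalarTower A Ah L']
  [Algebra L L'] [IsScalarTower A L L'] {t : A}

/-- The spectrum of the base change of the algebra of a cover. -/
theorem exists_baseChange_iso (Y : FEt.Cat (Spec (CommRingCat.of L))) {H : Type u} [CommRing H] [Algebra L H]
    (i : Spec (CommRingCat.of H) ≅ Y.left) (hi : i.hom ≫ Y.hom = Spec.map (CommRingCat.ofHom (algebraMap L H))) :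
    ∃ j : Spec (CommRingCat.of (H ⊗[L] L')) ≅ pullback Y.hom (Spec.map (CommRingCat.ofHom (algebraMap L L'))),
      j.hom ≫ pullback.fst _ _ =
        Spec.map (CommRingCat.ofHom (Algebra.TensorProduct.includeLeftRingHom : H →+* H ⊗[L] L')) ≫ i.hom ∧
      j.hom ≫ pullback.snd _ _ =
        Spec.map (CommRingCat.ofHom
          (Algebra.TensorProduct.includeRight.toRingHom : L' →+* H ⊗[L] L')) := by
  let g := Spec.map (CommRingCat.ofHom (algebraMap L L'))
  let m := pullback.map (Spec.map (CommRingCat.ofHom (algebraMap L H))) g Y.hom g i.hom (𝟙 _) (𝟙 _)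
    (by rw [Category.comp_id, hi]) (by rw [Category.comp_id, Category.id_comp])
  have : IsIso m := pullback.map_isIso _ _ _ _ _ _ _ _ _
  refine ⟨(pullbackSpecIso L H L').symm ≪≫ asIso m, ?_, ?_⟩
  · exact (Category.assoc _ _ _).trans ((congrArg (_ ≫ ·) (pullback.lift_fst _ _ _)).trans
      ((Category.assoc _ _ _).symm.trans (congrArg (· ≫ i.hom) (pullbackSpecIso_inv_fst L H L'))))
  · exact (Category.assoc _ _ _).trans ((congrArg (_ ≫ ·) ((pullback.lift_snd _ _ _).trans
      (Category.comp_id _))).trans (pullbackSpecIso_inv_snd L H L'))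

theorem clopen (S : Setting (Ah := Ah) (L := L) (L' := L') t) :
    Full.ClopenInj (Spec.map (CommRingCat.ofHom (algebraMap L L'))) ∧
      Full.ClopenSurj (Spec.map (CommRingCat.ofHom (algebraMap L L'))) := by
  have key : ∀ Y : FEt.Cat (Spec (CommRingCat.of L)), ∃ (H : Type u) (_ : CommRing H) (_ : Algebra L H)
      (i : Spec (CommRingCat.of H) ≅ Y.left)
      (j : Spec (CommRingCat.of (H ⊗[L] L')) ≅ pullback Y.hom (Spec.map (CommRingCat.ofHom (algebraMap L L')))),
      (∀ q, pullback.fst Y.hom (Spec.map (CommRingCat.ofHom (algebraMap L L'))) (j.hom q) =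
        i.hom (PrimeSpectrum.comap (Algebra.TensorProduct.includeLeftRingHom : H →+* H ⊗[L] L') q)) ∧
      ∀ e : H ⊗[L] L', IsIdempotentElem e → ∃! e₀ : H, IsIdempotentElem e₀ ∧ e₀ ⊗ₜ[L] (1 : L') = e := by
    intro Y
    obtain ⟨H, _, _, _, _, i, hi⟩ := exists_algebra Y
    obtain ⟨j, hj, -⟩ := exists_baseChange_iso (L' := L') Y i hi
    refine ⟨H, inferInstance, inferInstance, i, j, fun q => congrArg (fun k => k q) hj, fun e he => ?_⟩
    let c := Algebra.TensorProduct.comm L H L'
    obtain ⟨e₀, ⟨he₀, hee⟩, huniq⟩ := (idempotent_and_unit S H).1 (c e) (he.map c)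
    refine ⟨e₀, ⟨he₀, c.injective (by rw [Algebra.TensorProduct.comm_tmul, hee])⟩, fun e₁ ⟨he₁, h⟩ => ?_⟩
    exact huniq e₁ ⟨he₁, by rw [← h, Algebra.TensorProduct.comm_tmul]⟩
  refine ⟨fun Y W hW hp => ?_, fun Y W' hW' => ?_⟩
  · obtain ⟨H, _, _, i, j, hj, hu⟩ := key Y
    obtain ⟨e, he, hWe⟩ := PrimeSpectrum.isClopen_iff.mp (hW.preimage i.hom.continuous)
    have h0 : e ⊗ₜ[L] (1 : L') = 0 := by
      have hnil : IsNilpotent (e ⊗ₜ[L] (1 : L')) := by
        rw [← PrimeSpectrum.basicOpen_eq_bot_iff]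
        refine TopologicalSpace.Opens.ext (Set.eq_empty_of_forall_notMem fun q hq => ?_)
        have h1 : PrimeSpectrum.comap (Algebra.TensorProduct.includeLeftRingHom : H →+* H ⊗[L] L') q ∈
            (PrimeSpectrum.basicOpen e : Set (PrimeSpectrum H)) := hq
        replace h1 := hWe.ge h1
        have h2 : j.hom q ∈ pullback.fst Y.hom (Spec.map (CommRingCat.ofHom (algebraMap L L'))) ⁻¹' W := by
          rw [Set.mem_preimage, hj]
          exact h1
        rw [hp] at h2
        exact h2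
      exact (he.map (Algebra.TensorProduct.includeLeftRingHom : H →+* H ⊗[L] L')).eq_zero_of_isNilpotent hnil
    have he0 : e = 0 := (hu 0 IsIdempotentElem.zero).unique ⟨he, h0⟩ ⟨IsIdempotentElem.zero, TensorProduct.zero_tmul _ _⟩
    refine Set.eq_empty_of_forall_notMem fun y hy => ?_
    have h1 : i.inv y ∈ i.hom ⁻¹' W := by
      rw [Set.mem_preimage, ← Scheme.Hom.comp_apply, i.inv_hom_id]
      exact hy
    have h3 := hWe.le h1
    rw [he0, PrimeSpectrum.basicOpen_zero] at h3
    exact h3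
  · obtain ⟨H, _, _, i, j, hj, hu⟩ := key Y
    obtain ⟨e', he', hWe⟩ := PrimeSpectrum.isClopen_iff.mp (hW'.preimage j.hom.continuous)
    obtain ⟨e, ⟨he, hee⟩, -⟩ := hu e' he'
    refine ⟨i.inv ⁻¹' (PrimeSpectrum.basicOpen e : Set (PrimeSpectrum H)),
      (PrimeSpectrum.isClopen_iff.mpr ⟨e, he, rfl⟩).preimage i.inv.continuous, Set.ext fun z => ?_⟩
    obtain ⟨q, rfl⟩ : ∃ q, j.hom q = z := ⟨j.inv z, by rw [← Scheme.Hom.comp_apply, j.inv_hom_id]; rfl⟩
    rw [Set.mem_preimage, Set.mem_preimage, hj, ← Scheme.Hom.comp_apply, i.hom_inv_id]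
    have h2 : j.hom q ∈ W' ↔ q ∈ (PrimeSpectrum.basicOpen e' : Set (PrimeSpectrum (H ⊗[L] L'))) :=
      ⟨fun h => hWe.le h, fun h => hWe.ge h⟩
    rw [h2, ← hee]
    rfl

theorem isEquivalence (S : Setting (Ah := Ah) (L := L) (L' := L') t) :
    (FEt.restrict (Spec.map (CommRingCat.ofHom (algebraMap L L')))).IsEquivalence := by
  obtain ⟨h₁, h₂⟩ := clopen S
  obtain ⟨hfull, hfaith⟩ := Full.full_faithful _ h₁ h₂
  have : (FEt.restrict (Spec.map (CommRingCat.ofHom (algebraMap L L')))).EssSurj := ⟨fun Y' => by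
    obtain ⟨H', _, _, _, _, i', hi'⟩ := exists_algebra Y'
    obtain ⟨C, _, _, hC, hCf, ⟨ε⟩⟩ := exists_descent S H'
    have h1 : Etale (Spec.map (CommRingCat.ofHom (algebraMap L C))) :=
      (HasRingHomProperty.Spec_iff (P := @Etale)).mpr (RingHom.etale_algebraMap.mpr hC)
    have h2 : IsFinite (Spec.map (CommRingCat.ofHom (algebraMap L C))) :=
      (IsFinite.SpecMap_iff _).mpr (RingHom.finite_algebraMap.mpr hCf)
    let Y : FEt.Cat (Spec (CommRingCat.of L)) :=
      MorphismProperty.Over.mk ⊤ (Spec.map (CommRingCat.ofHom (algebraMap L C))) ⟨h2, h1⟩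
    obtain ⟨j, -, hj⟩ := exists_baseChange_iso (L' := L') Y (Iso.refl _) (Category.id_comp _)
    let r : C ⊗[L] L' ≃+* H' := (Algebra.TensorProduct.comm L C L').toRingEquiv.trans ε.toRingEquiv
    let k : pullback Y.hom (Spec.map (CommRingCat.ofHom (algebraMap L L'))) ≅ Y'.left :=
      j.symm ≪≫ (Scheme.Spec.mapIso r.toCommRingCatIso.op).symm ≪≫ i'
    refine ⟨Y, ⟨MorphismProperty.Over.isoMk k ?_⟩⟩
    change k.hom ≫ Y'.hom = pullback.snd _ _
    simp only [k, Iso.trans_hom, Iso.symm_hom, Category.assoc, hi']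
    rw [Iso.inv_comp_eq, hj, Iso.inv_comp_eq]
    change _ = Spec.map _ ≫ Spec.map _
    rw [← Spec.map_comp]
    congr 1
    refine CommRingCat.hom_ext (RingHom.ext fun x => ?_)
    change algebraMap L' H' x = ε (Algebra.TensorProduct.comm L C L' ((1 : C) ⊗ₜ[L] x))
    rw [Algebra.TensorProduct.comm_tmul]
    exact (ε.commutes x).symm⟩
  exact { }

end Groth.Agent.FEtCat.DenseAlg
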