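import Mathlib.RingTheory.Etale.StandardEtale
import Mathlib.RingTheory.Smooth.StandardSmoothOfFree
import Mathlib.RingTheory.Etale.Basic
import Mathlib.RingTheory.Finiteness.Basic
import Mathlib.RingTheory.MvPolynomial.Homogeneous
import Mathlib.Algebra.Polynomial.EraseLead

/-!
# Finite etale algebras as factors of complete intersections with monic equations
-/

set_option autoImplicit false

universe u

open MvPolynomial

namespace Groth.Agent.FEtCat.DenseAlg

/-- Equations `X i ^ D + lower` cut out a finite algebra. -/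
theorem finite_of_monic {L : Type u} [CommRing L] {ι : Type} [Finite ι] {D : ℕ}
    (F : ι → MvPolynomial ι L) (hF : ∀ i, (F i - X i ^ D).totalDegree < D) :
    Module.Finite L (MvPolynomial ι L ⧸ Ideal.span (Set.range F)) := by
  classical
  cases nonempty_fintype ι
  let q := Ideal.Quotient.mkₐ L (Ideal.span (Set.range F))
  let b : (ι → Fin D) → MvPolynomial ι L ⧸ Ideal.span (Set.range F) :=
    fun d => q (monomial (Finsupp.equivFunOnFinite.symm fun i => (d i : ℕ)) 1)
  refine ⟨?_⟩
  suffices h : ⊤ ≤ Submodule.span L (Set.range b) by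
    rw [top_le_iff] at h
    exact h ▸ Submodule.fg_span (Set.finite_range b)
  rintro x -
  obtain ⟨p, rfl⟩ := Ideal.Quotient.mk_surjective x
  change q p ∈ _
  suffices h : ∀ N, ∀ p : MvPolynomial ι L, p.totalDegree ≤ N → q p ∈ Submodule.span L (Set.range b) from
    h _ p le_rfl
  intro N
  induction N using Nat.strong_induction_on with
  | h N ih =>
    intro p hp
    rw [p.as_sum, map_sum]
    refine Submodule.sum_mem _ fun d hd => ?_
    have hdN : d.sum (fun _ e => e) ≤ N := (le_totalDegree hd).trans hp
    rw [show monomial d (p.coeff d) = p.coeff d • monomial d (1 : L) by rw [smul_monomial, smul_eq_mul, mul_one],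
      map_smul]
    refine Submodule.smul_mem _ _ ?_
    by_cases hlt : ∀ i, d i < D
    · exact Submodule.subset_span ⟨fun i => ⟨d i, hlt i⟩, congrArg (fun d => q (monomial d 1))
        (Finsupp.ext fun i => by simp)⟩
    push Not at hlt
    obtain ⟨i, hi⟩ := hlt
    obtain ⟨d', hd'⟩ : ∃ d', d = Finsupp.single i D + d' := ⟨d - Finsupp.single i D, by
      ext j
      rcases eq_or_ne j i with rfl | h
      · simp; omega
      · simp [Finsupp.single_eq_of_ne h]⟩
    have hsum : d.sum (fun _ e => e) = D + d'.sum (fun _ e => e) := by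
      rw [hd', Finsupp.sum_add_index' (fun _ => rfl) (fun _ _ _ => rfl), Finsupp.sum_single_index rfl]
    have e : q (monomial d (1 : L)) = q ((X i ^ D - F i) * monomial d' 1) := by
      rw [map_mul, map_sub, show q (F i) = 0 from
        Ideal.Quotient.eq_zero_iff_mem.mpr (Ideal.subset_span ⟨i, rfl⟩), sub_zero, ← map_mul,
        X_pow_eq_monomial, monomial_mul, one_mul, ← hd']
    rw [e]
    have hdeg : ((X i ^ D - F i) * monomial d' 1).totalDegree < D + d'.sum (fun _ e => e) := by
      refine (totalDegree_mul _ _).trans_lt ?_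
      rw [← neg_sub, totalDegree_neg]
      exact add_lt_add_of_lt_of_le (hF i) (totalDegree_monomial_le _ _)
    exact ih _ (lt_of_lt_of_le hdeg (hsum ▸ hdN)) _ le_rfl

theorem totalDegree_aeval_X_le {R : Type u} [CommRing R] {ι : Type} (i : ι) (q : Polynomial R) :
    (Polynomial.aeval (X i : MvPolynomial ι R) q).totalDegree ≤ q.natDegree := by
  rw [Polynomial.aeval_eq_sum_range]
  refine (totalDegree_finsetSum_le fun k hk => ?_)
  refine (totalDegree_smul_le _ _).trans ?_
  rw [X_pow_eq_monomial]
  refine (totalDegree_monomial_le _ _).trans ?_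
  rw [Finsupp.sum_single_index rfl]
  exact Nat.lt_succ_iff.mp (Finset.mem_range.mp hk)

/-- A finite etale algebra is generated by elements satisfying monic-type equations with Jacobian one. -/
theorem exists_monic_presentation (L C : Type u) [CommRing L] [CommRing C] [Algebra L C]
    [Algebra.Etale L C] [Module.Finite L C] :
    ∃ (ι : Type) (_ : Fintype ι) (_ : DecidableEq ι) (x : ι → C) (D : ℕ) (F : ι → MvPolynomial ι L),
      Function.Surjective (aeval x : MvPolynomial ι L →ₐ[L] C) ∧ 0 < D ∧
      (∀ i, (F i - X i ^ D).totalDegree < D) ∧ (∀ i, aeval x (F i) = 0) ∧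
      ∀ i k, aeval x (pderiv k (F i)) = if k = i then 1 else 0 := by
  classical
  obtain ⟨ι, σ, hσ, hι, P, hP⟩ := ((Algebra.Etale.iff_isStandardSmoothOfRelativeDimension_zero
    (R := L) (S := C)).1 ‹_›).out
  cases nonempty_fintype ι
  cases nonempty_fintype σ
  have hcard : Nat.card σ = Nat.card ι := by
    have h1 : Nat.card ι - Nat.card σ = 0 := hP
    have h2 := P.card_relations_le_card_vars_of_isFinite
    omega
  have hbij : Function.Bijective P.map := by
    rw [Fintype.bijective_iff_injective_and_card]
    exact ⟨P.map_inj, by rwa [Nat.card_eq_fintype_card, Nat.card_eq_fintype_card] at hcard⟩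
  let e := Equiv.ofBijective _ hbij
  let x := P.val
  let M : Matrix σ σ C := P.jacobiMatrix.map (aeval x)
  have hM : IsUnit M.det := by
    have := P.jacobian_isUnit
    rw [Algebra.PreSubmersivePresentation.jacobian_eq_jacobiMatrix_det, P.algebraMap_apply] at this
    rw [show M.det = aeval x P.jacobiMatrix.det from (RingHom.map_det _ _).symm]
    exact this
  have hsurj : Function.Surjective (aeval x : MvPolynomial ι L →ₐ[L] C) := fun c => ⟨P.σ c, P.aeval_val_σ c⟩
  choose a ha using fun (j k : σ) => hsurj (M⁻¹ j k)
  let g : ι → MvPolynomial ι L := fun i => ∑ j, a j (e.symm i) * P.relation j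
  have hrel : ∀ j, aeval x (P.relation j) = 0 := fun j => P.aeval_val_relation j
  have hg0 : ∀ i, aeval x (g i) = 0 := fun i => by simp [g, map_sum, hrel]
  have hg1 : ∀ i k, aeval x (pderiv k (g i)) = if k = i then 1 else 0 := by
    intro i k
    obtain ⟨i', rfl⟩ := e.surjective i
    obtain ⟨k', rfl⟩ := e.surjective k
    have h1 : (M * M⁻¹) k' i' = (1 : Matrix σ σ C) k' i' := by rw [Matrix.mul_nonsing_inv _ hM]
    simp only [g, Equiv.symm_apply_apply, map_sum, pderiv_mul, map_add, map_mul, hrel, mul_zero, zero_add, ha,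
      EmbeddingLike.apply_eq_iff_eq]
    rw [Matrix.mul_apply, Matrix.one_apply] at h1
    rw [← h1]
    refine Finset.sum_congr rfl fun j _ => ?_
    rw [mul_comm]
    congr 1
    simp [M, Algebra.PreSubmersivePresentation.jacobiMatrix_apply, e]
  choose p hp hpx using fun i => Algebra.IsIntegral.isIntegral (R := L) (x i)
  let D := (Finset.univ.sup fun i => (g i).totalDegree) + (∑ i, 2 * (p i).natDegree) + 1
  have hD : ∀ i, (g i).totalDegree < D ∧ 2 * (p i).natDegree ≤ D := fun i => by
    have h1 := Finset.le_sup (f := fun i => (g i).totalDegree) (Finset.mem_univ i)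
    have h2 := Finset.single_le_sum (f := fun i => 2 * (p i).natDegree) (fun _ _ => Nat.zero_le _) (Finset.mem_univ i)
    simp only [D]
    omega
  let q : ι → Polynomial L := fun i => p i ^ 2 * Polynomial.X ^ (D - 2 * (p i).natDegree)
  let Q : ι → MvPolynomial ι L := fun i => Polynomial.aeval (X i) (q i)
  have hp0 : ∀ i, Polynomial.aeval (x i) (p i) = 0 := hpx
  have hQ : ∀ i, Q i = Polynomial.aeval (X i) (p i) * (Polynomial.aeval (X i) (p i) * X i ^ (D - 2 * (p i).natDegree)) := by
    intro i
    simp only [Q, q, map_mul, map_pow, Polynomial.aeval_X]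
    ring
  have hP0 : ∀ i, aeval x (Polynomial.aeval (X i : MvPolynomial ι L) (p i)) = 0 := fun i => by
    rw [← Polynomial.aeval_algHom_apply, aeval_X, hp0]
  refine ⟨ι, inferInstance, inferInstance, x, D, fun i => g i + Q i, hsurj, by omega, fun i => ?_,
    fun i => ?_, fun i k => ?_⟩
  · rcases subsingleton_or_nontrivial L with hL | hL
    · rw [Subsingleton.elim (_ - _) (0 : MvPolynomial ι L), totalDegree_zero]
      omega
    have hq : (q i).Monic ∧ (q i).natDegree = D := by
      refine ⟨((hp i).pow 2).mul (Polynomial.monic_X_pow _), ?_⟩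
      rw [((hp i).pow 2).natDegree_mul (Polynomial.monic_X_pow _), (hp i).natDegree_pow,
        Polynomial.natDegree_X_pow]
      have := (hD i).2
      omega
    have he : g i + Q i - X i ^ D = g i + Polynomial.aeval (X i) (q i).eraseLead := by
      simp only [Q]
      conv_lhs => rw [← (q i).eraseLead_add_C_mul_X_pow]
      rw [hq.1.leadingCoeff, hq.2, map_one, one_mul, map_add, map_pow, Polynomial.aeval_X]
      ring
    rw [he]
    refine (totalDegree_add _ _).trans_lt (max_lt (hD i).1 ((totalDegree_aeval_X_le _ _).trans_lt ?_))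
    have h1 := Polynomial.eraseLead_natDegree_le (q i)
    rw [hq.2] at h1
    omega
  · rw [map_add, hg0, hQ, map_mul, hP0, zero_mul, add_zero]
  · rw [map_add, map_add, hg1, hQ, pderiv_mul, pderiv_mul]
    simp only [map_add, map_mul, hP0]
    ring

end Groth.Agent.FEtCat.DenseAlg
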