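import Groth.Agent.FEtCat.DenseAlg.Basic
import Groth.Agent.FEtCat.DenseAlg.Presentation
import Groth.Agent.IndAlg.EtaleLift
import Groth.Agent.Hensel.SmoothLift
import Mathlib.RingTheory.Nakayama

/-!
# Approximating finite etale algebras over `Ah[1/t]` by finite etale algebras over `A[1/t]`
-/

set_option autoImplicit false

universe u

open MvPolynomial TensorProduct
open Groth.Agent.CAlg99

namespace Groth.Agent.FEtCat.DenseAlg

/-- The Jacobian matrix of a square system. -/
noncomputable def jac {R : Type u} [CommRing R] {ι : Type} (v : ι → MvPolynomial ι R) :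
    Matrix ι ι (MvPolynomial ι R) :=
  Matrix.of fun i k => pderiv k (v i)

theorem jac_apply {R : Type u} [CommRing R] {ι : Type} (v : ι → MvPolynomial ι R) (i k : ι) :
    jac v i k = pderiv k (v i) := rfl

/-- The localization of a square system at its Jacobian is etale. -/
theorem etale_away_det {R : Type u} [CommRing R] {ι : Type} [Fintype ι] [DecidableEq ι]
    (v : ι → MvPolynomial ι R) :
    Algebra.Etale R (Localization.Away (Ideal.Quotient.mk (Ideal.span (Set.range v))
      (jac v).det)) := by
  let P := Algebra.PreSubmersivePresentation.naive (v := v) id Function.injective_id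
    (Function.surjInv (Ideal.Quotient.mk_surjective (I := Ideal.span (Set.range v))))
    (Function.surjInv_eq _)
  have h : P.jacobian = Ideal.Quotient.mk (Ideal.span (Set.range v))
      (jac v).det := by
    rw [Algebra.PreSubmersivePresentation.jacobian_eq_jacobiMatrix_det]
    have : P.jacobiMatrix = (jac v).transpose := by
      refine Matrix.ext fun i j => ?_
      exact Algebra.PreSubmersivePresentation.jacobiMatrix_apply P i j
    rw [this, Matrix.det_transpose, P.algebraMap_apply]
    show aeval (R := R) (fun i => Ideal.Quotient.mk (Ideal.span (Set.range v)) (X i)) _ = _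
    rw [show (aeval (R := R) fun i => Ideal.Quotient.mk (Ideal.span (Set.range v)) (X i)) =
      Ideal.Quotient.mkₐ R (Ideal.span (Set.range v)) from algHom_ext fun i => by simp]
    rfl
  rw [← h]
  exact IndAlg.EtaleLift.etale_away_jacobian P rfl

/-- A root of `X + t * H` in a henselian ring. -/
theorem exists_root {S : Type u} [CommRing S] {t : S} [HenselianRing S (Ideal.span {t})] {ι : Type}
    [Fintype ι] [DecidableEq ι] (H : ι → MvPolynomial ι S) :
    ∃ z : ι → S, ∀ i, z i + t * aeval z (H i) = 0 := by
  let v : ι → MvPolynomial ι S := fun i => X i + C t * H i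
  let T0 := MvPolynomial ι S ⧸ Ideal.span (Set.range v)
  let d : T0 := Ideal.Quotient.mk _ (jac v).det
  have := etale_away_det v
  let q := Ideal.Quotient.mk (Ideal.span {t})
  let p0 : MvPolynomial ι S →ₐ[S] S ⧸ Ideal.span {t} := aeval fun _ => 0
  have ht : algebraMap S (S ⧸ Ideal.span {t}) t = 0 :=
    Ideal.Quotient.eq_zero_iff_mem.mpr (Ideal.mem_span_singleton_self _)
  have hv : ∀ i, p0 (v i) = 0 := fun i => by simp [v, p0]
  let p1 : T0 →ₐ[S] S ⧸ Ideal.span {t} := Ideal.Quotient.liftₐ _ p0 fun a ha => by
    refine RingHom.mem_ker.mp ((Ideal.span_le.mpr ?_) ha)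
    rintro _ ⟨i, rfl⟩
    exact hv i
  have hd : IsUnit (p1 d) := by
    change IsUnit (p0 (jac v).det)
    rw [AlgHom.map_det]
    have : p0.mapMatrix (jac v) = (1 : Matrix ι ι (S ⧸ Ideal.span {t})) := by
      ext i k
      change p0 (pderiv k (v i)) = _
      simp only [v, map_add, pderiv_C_mul, pderiv_X, p0, Matrix.one_apply, map_mul,
        aeval_C, ht, zero_mul, add_zero, Pi.single_apply]
      rcases eq_or_ne i k with rfl | hik
      · simp
      · simp [hik]
    rw [this, Matrix.det_one]
    exact isUnit_one
  let σ : Localization.Away d →ₐ[S] S ⧸ Ideal.span {t} := IsLocalization.Away.liftAlgHom d (f := p1) hd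
  obtain ⟨τ, -⟩ := Hensel.exists_algHom_lift_smooth (I := Ideal.span {t}) (Localization.Away d) σ
  let f : MvPolynomial ι S →ₐ[S] S :=
    τ.comp ((IsScalarTower.toAlgHom S T0 (Localization.Away d)).comp (Ideal.Quotient.mkₐ S _))
  refine ⟨fun i => f (X i), fun i => ?_⟩
  have h0 : f (v i) = 0 := by
    change τ (algebraMap T0 _ (Ideal.Quotient.mk _ (v i))) = 0
    rw [Ideal.Quotient.eq_zero_iff_mem.mpr (Ideal.subset_span (Set.mem_range_self i)), map_zero, map_zero]
  rw [← h0]
  conv_rhs => rw [aeval_unique f]
  simp [v, Function.comp_def]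

theorem pderiv_aeval_affine {R C : Type u} [CommRing R] [CommRing C] [Algebra R C] {ι : Type} [Fintype ι]
    [DecidableEq ι] (x : ι → C) (T : C) (P : MvPolynomial ι R) (k : ι) :
    pderiv k (aeval (fun i => MvPolynomial.C (x i) + MvPolynomial.C T * X i : ι → MvPolynomial ι C) P) =
      MvPolynomial.C T * aeval (fun i => MvPolynomial.C (x i) + MvPolynomial.C T * X i : ι → MvPolynomial ι C) (pderiv k P) := by
  induction P using MvPolynomial.induction_on with
  | C r => simp [MvPolynomial.algebraMap_apply]
  | add p q hp hq => simp [hp, hq, mul_add]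
  | mul_X p i hp =>
    rw [map_mul, pderiv_mul, hp, pderiv_mul, map_add, map_mul, map_mul, aeval_X]
    rcases eq_or_ne k i with rfl | hki
    · simp; ring
    · simp [pderiv_X_of_ne hki.symm]; ring

theorem coe_aeval {R C : Type u} [CommRing R] [CommRing C] [Algebra R C] {ι : Type} {W : Subalgebra R C}
    (z : ι → W) (P : MvPolynomial ι W) :
    (aeval z P : C) = aeval (fun j => (z j : C)) (MvPolynomial.map W.val.toRingHom P) := by
  induction P using MvPolynomial.induction_on with
  | C r => simp
  | add p q hp hq => simp only [map_add, Subalgebra.coe_add, hp, hq]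
  | mul_X p i hp =>
    simp only [map_mul, aeval_X, map_X, Subalgebra.coe_mul, hp]

variable {A Ah L L' : Type u} [CommRing A] [CommRing Ah] [CommRing L] [CommRing L']
  [Algebra A Ah] [Algebra A L] [Algebra Ah L'] [Algebra A L'] [IsScalarTower A Ah L']
  [Algebra L L'] [IsScalarTower A L L'] {t : A}

/-- Elements of `L'` are approximated by elements of `L`. -/
theorem exists_approx (S : Setting (Ah := Ah) (L := L) (L' := L') t) (l' : L') (n : ℕ) :
    ∃ (l : L) (ε : Ah), algebraMap L L' l - l' = algebraMap Ah L' (algebraMap A Ah t) ^ n * algebraMap Ah L' ε := by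
  have := S.locA
  have := S.locAh
  obtain ⟨k, y, hy⟩ := IsLocalization.Away.surj (algebraMap A Ah t) l'
  obtain ⟨a, z, hz⟩ := S.data.dense (k + n) y
  obtain ⟨w, hw⟩ := (IsLocalization.Away.algebraMap_isUnit (S := L) t).pow k |>.exists_right_inv
  refine ⟨algebraMap A L a * w, z, ?_⟩
  have hu := (IsLocalization.Away.algebraMap_isUnit (S := L') (algebraMap A Ah t)).pow k
  refine hu.mul_left_injective ?_
  have e : algebraMap L L' w * algebraMap Ah L' (algebraMap A Ah t) ^ k = 1 := by
    rw [← IsScalarTower.algebraMap_apply A Ah L', IsScalarTower.algebraMap_apply A L L', ← map_pow, ← map_mul,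
      mul_comm, hw, map_one]
  have hz' := congrArg (algebraMap Ah L') hz
  simp only [map_sub, map_mul, map_pow, ← IsScalarTower.algebraMap_apply A Ah L'] at hz' hy e ⊢
  rw [← IsScalarTower.algebraMap_apply A L L']
  linear_combination (algebraMap A L' a) * e - hy + hz'

set_option maxHeartbeats 1000000 in
/-- Every finite etale algebra is the quotient of a monic system defined over `L`, with invertible
Jacobian. -/
theorem exists_system (S : Setting (Ah := Ah) (L := L) (L' := L') t) (C' : Type u) [CommRing C']
    [Algebra L' C'] [Algebra.Etale L' C'] [Module.Finite L' C'] :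
    ∃ (ι : Type) (_ : Fintype ι) (_ : DecidableEq ι) (D : ℕ) (F : ι → MvPolynomial ι L) (x : ι → C'),
      (∀ i, (F i - X i ^ D).totalDegree < D) ∧
      Function.Surjective (aeval x : MvPolynomial ι L' →ₐ[L'] C') ∧
      (∀ i, aeval x (MvPolynomial.map (algebraMap L L') (F i)) = 0) ∧
      IsUnit (aeval x (MvPolynomial.map (algebraMap L L') (jac F).det)) := by
  classical
  have := S.locA
  have := S.locAh
  have := S.hensAh
  obtain ⟨ι, _, _, x, D, F, hsurj, hD, hdeg, hF0, hF1⟩ := exists_monic_presentation L' C'
  let : Algebra Ah C' := ((algebraMap L' C').comp (algebraMap Ah L')).toAlgebra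
  have : IsScalarTower Ah L' C' := .of_algebraMap_eq' rfl
  let t' := algebraMap A Ah t
  let T : C' := algebraMap Ah C' t'
  have hT : IsUnit T := by
    show IsUnit (algebraMap Ah C' t')
    rw [IsScalarTower.algebraMap_apply Ah L' C']
    exact (IsLocalization.Away.algebraMap_isUnit t').map _
  -- scaled generators and the lattice
  have hint : ∀ i, ∃ a : ℕ, IsIntegral Ah (T ^ a * x i) := fun i => by
    obtain ⟨⟨_, a, rfl⟩, ha⟩ := (Algebra.IsIntegral.isIntegral (R := L') (x i)).exists_multiple_integral_of_isLocalization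
      (Submonoid.powers t')
    exact ⟨a, by simpa [T, Algebra.smul_def, Submonoid.smul_def] using ha⟩
  choose a₀ ha₀ using hint
  let a := Finset.univ.sup a₀
  let y : ι → C' := fun i => T ^ a * x i
  let W : Subalgebra Ah C' := Algebra.adjoin Ah (Set.range y)
  have hWfg : (Subalgebra.toSubmodule W).FG := fg_adjoin_of_finite (Set.finite_range y) (by
    rintro _ ⟨i, rfl⟩
    obtain ⟨b, hb⟩ := Nat.exists_eq_add_of_le (Finset.le_sup (f := a₀) (Finset.mem_univ i))
    have : y i = T ^ b * (T ^ a₀ i * x i) := by simp only [y, a, hb, pow_add]; ring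
    rw [this]
    exact (isIntegral_algebraMap.pow b).mul (ha₀ i))
  have : Module.Finite Ah W := ⟨(Submodule.fg_top _).mpr hWfg⟩
  have : HenselianRing W (Ideal.span {algebraMap Ah W t'}) := by
    have := Hensel.henselianRing_of_isIntegral (A := Ah) (I := Ideal.span {t'}) W
    rwa [Ideal.map_span, Set.image_singleton] at this
  have hTW : T ∈ W := W.algebraMap_mem t'
  have hpowle : ∀ {k m : ℕ} (z : C'), k ≤ m → T ^ k * z ∈ W → T ^ m * z ∈ W := fun {k m} z hkm h => by
    obtain ⟨b, rfl⟩ := Nat.exists_eq_add_of_le hkm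
    rw [pow_add, mul_comm (T ^ k), mul_assoc]
    exact mul_mem (pow_mem hTW b) h
  have hspan : ∀ z : C', ∃ k, T ^ k * z ∈ W := fun z => by
    obtain ⟨p, rfl⟩ := hsurj z
    induction p using MvPolynomial.induction_on with
    | C r =>
      obtain ⟨k, w, hw⟩ := IsLocalization.Away.surj t' r
      refine ⟨k, ?_⟩
      rw [aeval_C, show T ^ k * algebraMap L' C' r = algebraMap Ah C' w by
        rw [IsScalarTower.algebraMap_apply Ah L' C' w, ← hw, map_mul, map_pow, mul_comm,
          ← IsScalarTower.algebraMap_apply Ah L' C']]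
      exact W.algebraMap_mem w
    | add p q hp hq =>
      obtain ⟨k, hk⟩ := hp
      obtain ⟨l, hl⟩ := hq
      refine ⟨k + l, ?_⟩
      rw [map_add, mul_add]
      exact add_mem (hpowle _ (Nat.le_add_right _ _) hk) (hpowle _ (Nat.le_add_left _ _) hl)
    | mul_X p i hp =>
      obtain ⟨k, hk⟩ := hp
      refine ⟨k + a, ?_⟩
      rw [map_mul, aeval_X, pow_add,
        show T ^ k * T ^ a * (aeval x p * x i) = (T ^ k * aeval x p) * y i by simp only [y]; ring]
      exact mul_mem hk (Algebra.subset_adjoin ⟨i, rfl⟩)
  -- translated equations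
  let Φ : ι → MvPolynomial ι C' := fun i =>
    aeval (fun j => MvPolynomial.C (x j) + MvPolynomial.C (1 : C') * X j) (F i)
  have hΦ0 : ∀ i, constantCoeff (Φ i) = 0 := fun i => by
    have h : ((aeval (fun _ => (0 : C')) : MvPolynomial ι C' →ₐ[C'] C').restrictScalars L').comp
        (aeval (R := L') fun j => MvPolynomial.C (x j) + MvPolynomial.C (1 : C') * X j) = aeval x :=
      algHom_ext fun j => by simp
    rw [← hF0 i, ← h, AlgHom.comp_apply, AlgHom.restrictScalars_apply]
    simp [aeval_zero', Φ]
  have hΦ1 : ∀ i k, (Φ i).coeff (Finsupp.single k 1) = if k = i then 1 else 0 := fun i k => by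
    have h1 : constantCoeff (pderiv k (Φ i)) = (Φ i).coeff (Finsupp.single k 1) := by
      rw [constantCoeff_eq, coeff_pderiv]; simp
    rw [← h1, pderiv_aeval_affine]
    have h : ((aeval (fun _ => (0 : C')) : MvPolynomial ι C' →ₐ[C'] C').restrictScalars L').comp
        (aeval (R := L') fun j => MvPolynomial.C (x j) + MvPolynomial.C (1 : C') * X j) = aeval x :=
      algHom_ext fun j => by simp
    rw [← hF1 i k, ← h, AlgHom.comp_apply, AlgHom.restrictScalars_apply]
    simp [aeval_zero']
  choose kk hkk using fun z : C' => hspan z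
  let a₁ := Finset.univ.sup fun i => (Φ i).support.sup fun d => kk ((Φ i).coeff d)
  let m := a₁ + 1
  let n := a * D + m + 1
  -- approximation
  choose l ε hl using fun c : L' => exists_approx S c n
  let G : ι → MvPolynomial ι L := fun i =>
    X i ^ D + ∑ d ∈ (F i - X i ^ D).support, monomial d (l ((F i - X i ^ D).coeff d))
  have hGdeg : ∀ i, (G i - X i ^ D).totalDegree < D := fun i => by
    simp only [G, add_sub_cancel_left]
    refine (totalDegree_finsetSum_le (d := (F i - X i ^ D).totalDegree) fun d hd => ?_).trans_lt (hdeg i)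
    exact (totalDegree_monomial_le _ _).trans (le_totalDegree hd)
  let aff : MvPolynomial ι L' →ₐ[L'] MvPolynomial ι C' :=
    aeval fun j => MvPolynomial.C (x j) + MvPolynomial.C (T ^ m) * X j
  let WW : Subalgebra Ah (MvPolynomial ι C') := (MvPolynomial.mapAlgHom W.val).range
  have hWC : ∀ w ∈ W, MvPolynomial.C w ∈ WW := fun w hw => ⟨MvPolynomial.C ⟨w, hw⟩, by simp⟩
  have hWX : ∀ j, X j ∈ WW := fun j => ⟨X j, by simp⟩
  have hTu : IsUnit (MvPolynomial.C T : MvPolynomial ι C') := hT.map _
  have key : ∀ i, ∃ h ∈ WW, aff (MvPolynomial.map (algebraMap L L') (G i)) =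
      MvPolynomial.C T ^ m * (X i + MvPolynomial.C T * h) := by
    intro i
    let Lev : Submodule Ah (MvPolynomial ι C') :=
      { carrier := {q | ∃ h ∈ WW, q = MvPolynomial.C T ^ m * (MvPolynomial.C T * h)}
        add_mem' := by
          rintro _ _ ⟨h, hh, rfl⟩ ⟨h', hh', rfl⟩
          exact ⟨h + h', add_mem hh hh', by ring⟩
        zero_mem' := ⟨0, zero_mem _, by ring⟩
        smul_mem' := by
          rintro r _ ⟨h, hh, rfl⟩
          exact ⟨r • h, WW.smul_mem hh r, by simp only [Algebra.smul_def]; ring⟩ }
    suffices hlev : aff (MvPolynomial.map (algebraMap L L') (G i)) - MvPolynomial.C T ^ m * X i ∈ Lev by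
      obtain ⟨h, hh, he⟩ := hlev
      exact ⟨h, hh, by linear_combination he⟩
    have hsplit : MvPolynomial.map (algebraMap L L') (G i) = F i + ∑ d ∈ (F i - X i ^ D).support,
        monomial d (algebraMap L L' (l ((F i - X i ^ D).coeff d)) - (F i - X i ^ D).coeff d) := by
      simp only [G, map_add, map_pow, map_X, map_sum, map_monomial, map_sub, Finset.sum_sub_distrib]
      rw [← MvPolynomial.as_sum (F i - X i ^ D)]
      ring
    rw [hsplit, map_add, map_sum, add_sub_right_comm]
    refine Lev.add_mem ?_ (Lev.sum_mem fun d hd => ?_)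
    · have hsub : aff (F i) = aeval (fun j => MvPolynomial.C (T ^ m) * X j) (Φ i) := by
        have : aff = ((aeval fun j => MvPolynomial.C (T ^ m) * X j :
            MvPolynomial ι C' →ₐ[C'] MvPolynomial ι C').restrictScalars L').comp
            (aeval (R := L') fun j => MvPolynomial.C (x j) + MvPolynomial.C (1 : C') * X j) :=
          algHom_ext fun j => by simp [aff]
        rw [this]
        rfl
      rw [hsub, (Φ i).as_sum, map_sum]
      have hterm : ∀ d : ι →₀ ℕ, aeval (fun j => MvPolynomial.C (T ^ m) * X j) (monomial d ((Φ i).coeff d)) =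
          MvPolynomial.C T ^ (m * d.sum fun _ e => e) * monomial d ((Φ i).coeff d) := fun d => by
        rw [monomial_eq, map_mul, aeval_C, Finsupp.prod, map_prod]
        simp only [map_pow, aeval_X, mul_pow, Finset.prod_mul_distrib, Finsupp.sum, Finset.mul_sum,
          ← Finset.prod_pow_eq_pow_sum, ← pow_mul, MvPolynomial.algebraMap_eq]
        ring
      simp only [hterm]
      rw [show MvPolynomial.C T ^ m * X i = ∑ d ∈ (Φ i).support, if d = Finsupp.single i 1 then
          MvPolynomial.C T ^ m * X i else 0 by
        rw [Finset.sum_ite_eq' (Φ i).support]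
        split_ifs with h
        · rfl
        · have h2 : (Φ i).coeff (Finsupp.single i 1) = 0 := notMem_support_iff.mp h
          rw [hΦ1, if_pos rfl] at h2
          have : Subsingleton C' := subsingleton_of_zero_eq_one h2.symm
          exact Subsingleton.elim _ _, ← Finset.sum_sub_distrib]
      refine Lev.sum_mem fun d hd => ?_
      have hc : (Φ i).coeff d ≠ 0 := mem_support_iff.mp hd
      split_ifs with hdi
      · subst hdi
        rw [hΦ1, if_pos rfl, Finsupp.sum_single_index rfl, mul_one, ← X, sub_self]
        exact Lev.zero_mem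
      rw [sub_zero]
      obtain ⟨s, hs⟩ : ∃ s, d.sum (fun _ e => e) = 2 + s := by
        rcases Nat.lt_or_ge (d.sum fun _ e => e) 2 with h | h
        · exfalso
          rcases Nat.lt_or_ge (d.sum fun _ e => e) 1 with h0 | h1
          · have : d = 0 := by
              ext j
              by_contra hne
              have := Finset.single_le_sum (f := fun j => d j) (fun _ _ => Nat.zero_le _) (Finsupp.mem_support_iff.mpr hne)
              simp only [Finsupp.sum] at h0
              simp at hne
              omega
            exact hc (by rw [this, ← constantCoeff_eq, hΦ0])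
          · obtain ⟨j, hj⟩ : ∃ j, d = Finsupp.single j 1 := by
              have hh : d.sum (fun _ e => e) = 1 := by omega
              exact (Finsupp.sum_eq_one_iff d).mp hh
            subst hj
            refine hc ?_
            rw [hΦ1, if_neg]
            rintro rfl
            exact hdi rfl
        · exact ⟨_, (Nat.add_sub_cancel' h).symm⟩
      have hk : kk ((Φ i).coeff d) ≤ m + m * s - 1 := by
        have h1 : kk ((Φ i).coeff d) ≤ a₁ := (Finset.le_sup (f := fun d => kk ((Φ i).coeff d)) hd).trans
          (Finset.le_sup (f := fun i => (Φ i).support.sup fun d => kk ((Φ i).coeff d)) (Finset.mem_univ i))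
        simp only [m] at h1 ⊢
        omega
      refine ⟨monomial d (T ^ (m + m * s - 1) * (Φ i).coeff d),
        ⟨monomial d ⟨_, hpowle _ hk (hkk _)⟩, by simp⟩, ?_⟩
      rw [← C_mul_monomial, map_pow, hs]
      have h2 : m * (2 + s) = m + (1 + (m + m * s - 1)) := by
        have : 1 ≤ m := Nat.le_add_left _ _
        rw [mul_add, mul_two]; omega
      rw [h2, pow_add, pow_add, pow_one]
      ring
    · rw [hl]
      obtain ⟨r, hr⟩ : ∃ r, n = m + (1 + a * d.sum fun _ e => e) + r := by
        have h1 : d.sum (fun _ e => e) ≤ D := ((le_totalDegree hd).trans_lt (hdeg i)).le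
        have h2 := Nat.mul_le_mul_left a h1
        exact ⟨a * D - a * d.sum (fun _ e => e), by simp only [n]; omega⟩
      refine ⟨MvPolynomial.C (algebraMap Ah C' (ε ((F i - X i ^ D).coeff d))) * MvPolynomial.C T ^ r *
        d.prod (fun j e => (MvPolynomial.C (y j) + MvPolynomial.C T ^ (a + m) * X j) ^ e), ?_, ?_⟩
      · exact mul_mem (mul_mem (hWC _ (W.algebraMap_mem _)) (pow_mem (hWC _ hTW) _))
          (prod_mem fun j _ => pow_mem (add_mem (hWC _ (Algebra.subset_adjoin ⟨j, rfl⟩))
            (mul_mem (pow_mem (hWC _ hTW) _) (hWX j))) _)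
      · have e : ∀ j, MvPolynomial.C (y j) + MvPolynomial.C T ^ (a + m) * X j =
            MvPolynomial.C T ^ a * (MvPolynomial.C (x j) + MvPolynomial.C (T ^ m) * X j) := fun j => by
          simp only [y, map_mul, map_pow, pow_add]; ring
        simp only [e, aff, aeval_monomial, Finsupp.prod, mul_pow, Finset.prod_mul_distrib, ← pow_mul,
          Finset.prod_pow_eq_pow_sum, map_mul, map_pow, MvPolynomial.algebraMap_apply]
        rw [show algebraMap L' C' (algebraMap Ah L' (algebraMap A Ah t)) = T from
          (IsScalarTower.algebraMap_apply Ah L' C' t').symm,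
          ← IsScalarTower.algebraMap_apply Ah L' C', hr, pow_add, pow_add, pow_add, pow_one,
          ← Finset.mul_sum]
        simp only [Finsupp.sum]
        ring
  choose h hh hG using key
  choose H hH using hh
  obtain ⟨z, hz⟩ := exists_root (t := algebraMap Ah W t') H
  let x' : ι → C' := fun j => x j + T ^ m * (z j : C')
  have heval : ∀ i, aeval x' (MvPolynomial.map (algebraMap L L') (G i)) = 0 := fun i => by
    have h1 : ((aeval fun j => (z j : C') : MvPolynomial ι C' →ₐ[C'] C').restrictScalars L').comp aff = aeval x' :=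
      algHom_ext fun j => by simp [aff, x']
    rw [← h1, AlgHom.comp_apply, hG, AlgHom.restrictScalars_apply, map_mul, map_pow, map_add, map_mul, aeval_C,
      aeval_X, ← hH]
    have h3 : aeval (fun j => (z j : C')) (MvPolynomial.mapAlgHom W.val (H i)) = (aeval z (H i) : C') :=
      (coe_aeval z (H i)).symm
    erw [h3]
    have h2 := congrArg (fun w : W => (w : C')) (hz i)
    simp only [Subalgebra.coe_add, Subalgebra.coe_mul, Subalgebra.coe_algebraMap, ZeroMemClass.coe_zero] at h2
    simp only [Algebra.algebraMap_self, RingHom.id_apply]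
    rw [h2, mul_zero]
  let I : Ideal W := Ideal.span {algebraMap Ah W t'}
  have hjac : I ≤ (⊥ : Ideal W).jacobson := HenselianRing.jac
  have hsurj' : Function.Surjective (aeval x' : MvPolynomial ι L' →ₐ[L'] C') := by
    let R' : Subalgebra Ah C' := ((aeval x' : MvPolynomial ι L' →ₐ[L'] C').restrictScalars Ah).range
    let J : Ideal Ah := Ideal.span {t'}
    have hTmul : ∀ w ∈ W, T * w ∈ J • Subalgebra.toSubmodule W := fun w hw => by
      rw [← Algebra.smul_def]
      exact Submodule.smul_mem_smul (Ideal.mem_span_singleton_self _) hw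
    have hle : ∀ w ∈ W, ∃ r ∈ R', w - r ∈ J • Subalgebra.toSubmodule W ∧ r ∈ W := by
      intro w hw
      induction hw using Algebra.adjoin_induction with
      | mem w hw =>
        obtain ⟨j, rfl⟩ := hw
        have hr : T ^ a * x' j = y j + T * (T ^ (a + a₁) * (z j : C')) := by simp only [y, x', m]; ring
        refine ⟨T ^ a * x' j, ⟨MvPolynomial.C (algebraMap Ah L' t') ^ a * X j, ?_⟩, ?_, ?_⟩
        · simp [IsScalarTower.algebraMap_apply Ah L' C' t', T]
        · rw [hr, sub_add_cancel_left]
          exact Submodule.neg_mem _ (hTmul _ (mul_mem (pow_mem hTW _) (z j).2))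
        · rw [hr]
          exact add_mem (Algebra.subset_adjoin ⟨j, rfl⟩) (mul_mem hTW (mul_mem (pow_mem hTW _) (z j).2))
      | algebraMap r => exact ⟨_, R'.algebraMap_mem r, by simp, W.algebraMap_mem r⟩
      | add p q _ _ hp hq =>
        obtain ⟨r, hr, h1, h1'⟩ := hp
        obtain ⟨r', hr', h2, h2'⟩ := hq
        refine ⟨r + r', add_mem hr hr', ?_, add_mem h1' h2'⟩
        rw [add_sub_add_comm]
        exact Submodule.add_mem _ h1 h2
      | mul p q hpW hqW hp hq =>
        obtain ⟨r, hr, h1, h1'⟩ := hp
        obtain ⟨r', hr', h2, h2'⟩ := hq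
        refine ⟨r * r', mul_mem hr hr', ?_, mul_mem h1' h2'⟩
        have hmul : ∀ u ∈ W, ∀ v ∈ J • Subalgebra.toSubmodule W, u * v ∈ J • Subalgebra.toSubmodule W := by
          intro u hu v hv
          refine Submodule.smul_induction_on hv (fun c hc v hv => ?_) (fun v v' hv hv' => ?_)
          · rw [mul_smul_comm]; exact Submodule.smul_mem_smul hc ((Subalgebra.mem_toSubmodule (S := W)).mpr (mul_mem hu ((Subalgebra.mem_toSubmodule (S := W)).mp hv)))
          · rw [mul_add]; exact Submodule.add_mem _ hv hv'
        rw [show p * q - r * r' = q * (p - r) + r * (q - r') by ring]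
        exact Submodule.add_mem _ (hmul _ hqW _ h1) (hmul _ h1' _ h2)
    have hJ : J ≤ (⊥ : Ideal Ah).jacobson := HenselianRing.jac
    have hWR : Subalgebra.toSubmodule W ≤ Subalgebra.toSubmodule R' := by
      refine Submodule.le_of_le_smul_of_le_jacobson_bot hWfg hJ fun w hw => ?_
      obtain ⟨r, hr, h1, -⟩ := hle w hw
      exact Submodule.mem_sup.mpr ⟨r, hr, w - r, h1, add_sub_cancel _ _⟩
    intro c
    obtain ⟨k, hk⟩ := hspan c
    obtain ⟨p, hp⟩ := hWR hk
    obtain ⟨u, hu⟩ := (IsLocalization.Away.algebraMap_isUnit (S := L') t').pow k |>.exists_right_inv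
    refine ⟨MvPolynomial.C u * p, ?_⟩
    have hp' : aeval x' p = T ^ k * c := hp
    rw [map_mul, aeval_C, hp', show T ^ k = algebraMap L' C' (algebraMap Ah L' t' ^ k) by
      rw [map_pow, ← IsScalarTower.algebraMap_apply Ah L' C'], ← mul_assoc, ← map_mul, mul_comm u, hu, map_one, one_mul]
  refine ⟨ι, inferInstance, inferInstance, D, G, x', hGdeg, hsurj', heval, ?_⟩
  let M : Matrix ι ι W := Matrix.of fun i k => aeval z (pderiv k (X i + MvPolynomial.C (algebraMap Ah W t') * H i))
  have hM : IsUnit M.det := by
    have h1 : Ideal.Quotient.mk I M.det = 1 := by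
      rw [RingHom.map_det, ← Matrix.det_one (n := ι) (R := W ⧸ I)]
      refine congrArg Matrix.det (Matrix.ext fun i k => ?_)
      have ht : Ideal.Quotient.mk I (algebraMap Ah W t') = 0 :=
        Ideal.Quotient.eq_zero_iff_mem.mpr (Ideal.mem_span_singleton_self _)
      change Ideal.Quotient.mk I (M i k) = (1 : Matrix ι ι (W ⧸ I)) i k
      simp only [M, Matrix.of_apply, map_add, pderiv_C_mul, 
        map_mul, aeval_C, Algebra.algebraMap_self, RingHom.id_apply, ht, zero_mul, add_zero, pderiv_X]
      rcases eq_or_ne i k with rfl | hik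
      · simp
      · simp [Pi.single_eq_of_ne hik, Matrix.one_apply_ne hik]
    rw [← map_one (Ideal.Quotient.mk I), Ideal.Quotient.eq] at h1
    have := Ideal.mem_jacobson_bot.mp (hjac h1) 1
    rwa [mul_one, sub_add_cancel] at this
  rw [RingHom.map_det, AlgHom.map_det]
  have hMeq : W.val.mapMatrix M = ((aeval x').mapMatrix
      ((MvPolynomial.map (algebraMap L L')).mapMatrix (jac G))) := by
    refine Matrix.ext fun i k => ?_
    simp only [AlgHom.mapMatrix_apply, RingHom.mapMatrix_apply, Matrix.map_apply, jac_apply]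
    have hd := congrArg (pderiv k) (hG i)
    rw [show MvPolynomial.C T ^ m = MvPolynomial.C (T ^ m) from (map_pow _ _ _).symm,
      pderiv_aeval_affine, pderiv_C_mul] at hd
    have hd2 := congrArg (aeval fun j => (z j : C')) ((hT.pow m).map MvPolynomial.C |>.mul_left_cancel hd)
    have h1 : ((aeval fun j => (z j : C') : MvPolynomial ι C' →ₐ[C'] C').restrictScalars L').comp aff = aeval x' :=
      algHom_ext fun j => by simp [aff, x']
    rw [← pderiv_map, ← h1]
    refine Eq.trans ?_ hd2.symm
    change (M i k : C') = _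
    simp only [M, Matrix.of_apply]
    rw [coe_aeval, ← pderiv_map, map_add, map_mul, map_X, map_C, ← hH]
    rfl
  rw [← hMeq, ← AlgHom.map_det]
  exact hM.map W.val

end Groth.Agent.FEtCat.DenseAlg
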